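import Groth.Agent.AlgGrp.K397.Rigid
import Groth.Agent.S19899

/-!
# Rigidity for families parametrised by a complete integral scheme

`Ω` algebraically closed, `X` reduced and connected, locally of finite type, `Z` proper and integral, `V = X × Z`, and
`b : V ⟶ Y` a morphism over `Ω` to a separated scheme locally of finite type which contracts `{x₀} × Z`.  Then `b` does
not depend on the point of `Z`.
-/

set_option autoImplicit false

universe u

open CategoryTheory CategoryTheory.Limits MonoidalCategory CartesianMonoidalCategory AlgebraicGeometry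

namespace K124.RigidFam

/-- Rigidity: a morphism from `X × Z` which contracts `{x₀} × Z` takes the same values on constant sections. -/
theorem eq_of_contracted {Ω : Type u} [Field Ω] [IsAlgClosed Ω] {X Y Z V : Scheme.{u}}
    (q : X ⟶ Spec (CommRingCat.of Ω)) [LocallyOfFiniteType q] [IsReduced X] [ConnectedSpace X]
    (r : Y ⟶ Spec (CommRingCat.of Ω)) [IsSeparated r] [LocallyOfFiniteType r]
    (s : Z ⟶ Spec (CommRingCat.of Ω)) [IsProper s] [IsIntegral Z] (p₁ : V ⟶ X) (p₂ : V ⟶ Z)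
    (hV : IsPullback p₁ p₂ q s) (b : V ⟶ Y) (hb : b ≫ r = p₁ ≫ q) (x₀ : Spec (CommRingCat.of Ω) ⟶ X)
    (hx₀ : x₀ ≫ q = 𝟙 _) (y₀ : Spec (CommRingCat.of Ω) ⟶ Y)
    (hc : ∀ v : Spec (CommRingCat.of Ω) ⟶ V, v ≫ p₁ = x₀ → v ≫ b = y₀) (j j' : X ⟶ V) (hj : j ≫ p₁ = 𝟙 X)
    (hj' : j' ≫ p₁ = 𝟙 X) (z z' : Spec (CommRingCat.of Ω) ⟶ Z) (hz : z ≫ s = 𝟙 _) (hz' : z' ≫ s = 𝟙 _)
    (hjz : j ≫ p₂ = q ≫ z) (hjz' : j' ≫ p₂ = q ≫ z') : j ≫ b = j' ≫ b := by
  let XO : Over (Spec (CommRingCat.of Ω)) := Over.mk q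
  let YO : Over (Spec (CommRingCat.of Ω)) := Over.mk r
  let ZO : Over (Spec (CommRingCat.of Ω)) := Over.mk s
  have i1 : LocallyOfFiniteType XO.hom := ‹LocallyOfFiniteType q›
  have i2 : ConnectedSpace XO.left := ‹ConnectedSpace X›
  have i3 : IsSeparated YO.hom := ‹IsSeparated r›
  have i4 : LocallyOfFiniteType YO.hom := ‹LocallyOfFiniteType r›
  have i5 : IsProper ZO.hom := ‹IsProper s›
  have i6 : CompactSpace ZO.left := QuasiCompact.compactSpace_of_compactSpace ZO.hom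
  have i7 : QuasiSeparatedSpace ZO.left := quasiSeparatedSpace_of_quasiSeparated ZO.hom
  have i8 : IsIso ZO.hom.appTop := (K414.AntiAffBC.bijective_iff ZO).mp (Groth.Agent.S19899.appTop_bijective s)
  -- the comparison of `V` with the product
  have sP : IsPullback (snd ZO XO).left (fst ZO XO).left q s := (IsPullback.of_hasPullback s q).flip
  let c : (ZO ⊗ XO).left ⟶ V := hV.lift (snd ZO XO).left (fst ZO XO).left sP.w
  have c1 : c ≫ p₁ = (snd ZO XO).left := hV.lift_fst _ _ _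
  have c2 : c ≫ p₂ = (fst ZO XO).left := hV.lift_snd _ _ _
  have hyr : y₀ ≫ r = 𝟙 _ := by
    rw [← hc (x₀ ≫ j) (by rw [Category.assoc, hj, Category.comp_id]), Category.assoc, Category.assoc, hb, reassoc_of% hj,
      hx₀]
  let f : ZO ⊗ XO ⟶ YO := Over.homMk (c ≫ b) (by
    change (c ≫ b) ≫ r = (ZO ⊗ XO).hom
    rw [Category.assoc, hb, ← Category.assoc, c1]
    exact Over.w (snd ZO XO))
  let x₁ : 𝟙_ (Over (Spec (CommRingCat.of Ω))) ⟶ XO := Over.homMk x₀ hx₀
  let z₁ : 𝟙_ (Over (Spec (CommRingCat.of Ω))) ⟶ ZO := Over.homMk z hz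
  let z₂ : 𝟙_ (Over (Spec (CommRingCat.of Ω))) ⟶ ZO := Over.homMk z' hz'
  let y₁ : 𝟙_ (Over (Spec (CommRingCat.of Ω))) ⟶ YO := Over.homMk y₀ hyr
  have hf : (ZO ◁ x₁) ≫ f = toUnit _ ≫ y₁ := by
    ext1
    have hred : IsReduced (ZO ⊗ 𝟙_ (Over (Spec (CommRingCat.of Ω)))).left := by
      have e : (ZO ⊗ 𝟙_ (Over (Spec (CommRingCat.of Ω)))).left ≅ Z := (Over.forget _).mapIso (ρ_ ZO)
      exact isReduced_of_isOpenImmersion e.hom
    have hlft : LocallyOfFiniteType (ZO ⊗ 𝟙_ (Over (Spec (CommRingCat.of Ω)))).hom := by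
      rw [← Over.w (ρ_ ZO).hom]
      have : IsIso (ρ_ ZO).hom.left := inferInstanceAs (IsIso ((Over.forget _).mapIso (ρ_ ZO)).hom)
      infer_instance
    have hlft' : LocallyOfFiniteType (((ZO ◁ x₁) ≫ f).left ≫ r) := by
      have h2 : ((ZO ◁ x₁) ≫ f).left ≫ r = (ZO ⊗ 𝟙_ (Over (Spec (CommRingCat.of Ω)))).hom := Over.w ((ZO ◁ x₁) ≫ f)
      rw [h2]
      exact hlft
    refine ext_of_apply_eq r Set.univ isClosed_univ.isLocallyClosed dense_univ ?_ ?_
    · intro x _ hx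
      obtain ⟨t, rfl⟩ := Groth.Agent.Books.AlgPts.exists_pt x hx
      have h1 : t ≫ (ZO ◁ x₁) ≫ f = t ≫ toUnit _ ≫ y₁ := by
        ext1
        have h2 := hc (t.left ≫ (ZO ◁ x₁).left ≫ c) (by
          rw [Category.assoc, Category.assoc, c1]
          have h3 : t ≫ (ZO ◁ x₁) ≫ snd ZO XO = x₁ := by
            rw [whiskerLeft_snd, ← Category.assoc, toUnit_unique (t ≫ snd ZO _) (𝟙 _), Category.id_comp]
          exact congr(($h3).left))
        have h4 : (t ≫ toUnit _ ≫ y₁).left = y₀ := by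
          rw [← Category.assoc, toUnit_unique (t ≫ toUnit _) (𝟙 _), Category.id_comp]
          rfl
        rw [h4, ← h2]
        simp only [Over.comp_left, Category.assoc, f, Over.homMk_left]
      exact congr(($h1).left (IsLocalRing.closedPoint Ω))
    · exact (Over.w ((ZO ◁ x₁) ≫ f)).trans (Over.w (toUnit (ZO ⊗ 𝟙_ (Over (Spec (CommRingCat.of Ω)))) ≫ y₁)).symm
  have key := K397.Rigid.eq_res z₁ x₁ f y₁ hf
  have main : ∀ (w : 𝟙_ (Over (Spec (CommRingCat.of Ω))) ⟶ ZO) (i : X ⟶ V), i ≫ p₁ = 𝟙 X → i ≫ p₂ = q ≫ w.left →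
      i ≫ b = (lift (toUnit XO ≫ z₁) (𝟙 XO) ≫ f).left := by
    intro w i hi hiw
    have h1 : lift (toUnit XO ≫ w) (𝟙 XO) ≫ f = lift (toUnit XO ≫ z₁) (𝟙 XO) ≫ f := by
      conv_lhs => rw [key, K401.RigidAA.res, lift_snd_assoc, Category.id_comp]
    rw [← h1]
    have h2 : i = (lift (toUnit XO ≫ w) (𝟙 XO)).left ≫ c := by
      apply hV.hom_ext
      · rw [hi, Category.assoc, c1, ← Over.comp_left, lift_snd]
        rfl
      · rw [hiw, Category.assoc, c2, ← Over.comp_left, lift_fst]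
        rfl
    rw [h2]
    simp only [Over.comp_left, Category.assoc, f, Over.homMk_left]
  exact (main z₁ j hj hjz).trans (main z₂ j' hj' hjz').symm

end K124.RigidFam
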